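import Mathlib.RingTheory.Smooth.Basic
import Mathlib.RingTheory.Localization.Away.Basic
import Mathlib.FieldTheory.Finite.Basic
import Mathlib.FieldTheory.IsAlgClosed.AlgebraicClosure
import Mathlib.RingTheory.MvPolynomial.Basic
import Mathlib.RingTheory.Polynomial.Basic

/-!
Rational hyperplane sections of the symplectic Hermitian hypersurface are singular at a rational point.
-/

set_option autoImplicit false

universe u

namespace GrothLib.HermSect

variable {k : Type u} [Field k] [Fintype k] {n : ℕ}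

local notation "ι₂" => (Fin (n + 1) ⊕ Fin (n + 1))

/-- The form of degree `q + 1`. -/
def G (k : Type u) [Fintype k] {R : Type u} [CommRing R] {n : ℕ} (v : Fin (n + 1) ⊕ Fin (n + 1) → R) : R :=
  ∑ i, (v (Sum.inl i) * v (Sum.inr i) ^ Fintype.card k - v (Sum.inr i) * v (Sum.inl i) ^ Fintype.card k)

theorem G_map {R S : Type u} [CommRing R] [CommRing S] (f : R →+* S) (v : Fin (n + 1) ⊕ Fin (n + 1) → R) :
    f (G k v) = G k (f ∘ v) := by
  simp [G, map_sum]

theorem G_smul {R : Type u} [CommRing R] (e : R) (v : Fin (n + 1) ⊕ Fin (n + 1) → R) :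
    G k (fun w => e * v w) = e ^ (Fintype.card k + 1) * G k v := by
  simp only [G, Finset.mul_sum]
  exact Finset.sum_congr rfl fun i _ => by ring

/-- The rational point attached to a hyperplane. -/
def pt (c : Fin (n + 1) ⊕ Fin (n + 1) → k) : Fin (n + 1) ⊕ Fin (n + 1) → k :=
  Sum.elim (fun i => - c (Sum.inr i)) fun i => c (Sum.inl i)

theorem G_shift {R : Type u} [CommRing R] [Algebra k R] (c : Fin (n + 1) ⊕ Fin (n + 1) → k)
    (u : Fin (n + 1) ⊕ Fin (n + 1) → R) (hu : ∑ w, algebraMap k R (c w) * u w = 0) :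
    G k (fun w => algebraMap k R (pt c w) + u w) = G k u := by
  let φ : R →ₐ[k] R := FiniteField.frobeniusAlgHom k R
  have hφ : ∀ x, x ^ Fintype.card k = φ x := fun x => rfl
  have hq : ∀ a : k, φ (algebraMap k R a) = algebraMap k R a := φ.commutes
  have h2 := congrArg φ hu
  simp only [map_sum, map_zero, map_mul, hq] at h2
  rw [Fintype.sum_sum_type] at hu h2
  simp only [G, hφ, map_add, hq, pt, Sum.elim_inl, Sum.elim_inr, map_neg]
  rw [← sub_eq_zero, ← Finset.sum_sub_distrib]
  refine (Finset.sum_congr rfl fun i _ => ?_).trans ((show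
    ∑ i, ((algebraMap k R (c (Sum.inl i)) * u (Sum.inl i) + algebraMap k R (c (Sum.inr i)) * u (Sum.inr i)) -
      (algebraMap k R (c (Sum.inl i)) * φ (u (Sum.inl i)) + algebraMap k R (c (Sum.inr i)) * φ (u (Sum.inr i)))) = 0 by
    rw [Finset.sum_sub_distrib, Finset.sum_add_distrib, Finset.sum_add_distrib, hu, h2, sub_self]))
  ring

theorem exists_tangent (hn : 1 ≤ n) (c : Fin (n + 1) ⊕ Fin (n + 1) → k) (K : Type u) [Field K] [Algebra k K]
    [Infinite K] : ∃ v : Fin (n + 1) ⊕ Fin (n + 1) → K,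
      ∑ w, algebraMap k K (c w) * v w = 0 ∧ G k v ≠ 0 := by
  classical
  let φ : K →ₐ[k] K := FiniteField.frobeniusAlgHom k K
  have hφ : ∀ x, x ^ Fintype.card k = φ x := fun x => rfl
  obtain ⟨e, f, he, hf, hω⟩ : ∃ e f : Fin (n + 1) ⊕ Fin (n + 1) → k, ∑ w, c w * e w = 0 ∧ ∑ w, c w * f w = 0 ∧
      ∑ i, (e (Sum.inl i) * f (Sum.inr i) - e (Sum.inr i) * f (Sum.inl i)) = 1 := by
    by_cases hex : ∃ i, c (Sum.inl i) = 0 ∧ c (Sum.inr i) = 0
    · obtain ⟨i, hx, hy⟩ := hex
      refine ⟨Pi.single (Sum.inl i) 1, Pi.single (Sum.inr i) 1, ?_, ?_, ?_⟩ <;>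
        simp [Pi.single_apply, hx, hy, Finset.sum_sub_distrib, Fintype.sum_sum_type]
    · push Not at hex
      haveI : Nontrivial (Fin (n + 1)) := Fin.nontrivial_iff_two_le.2 (by omega)
      obtain ⟨i, j, hij⟩ := exists_pair_ne (Fin (n + 1))
      obtain ⟨a, b, hab⟩ : ∃ a b, c (Sum.inl i) * a + c (Sum.inr i) * b = 1 := by
        by_cases h : c (Sum.inl i) = 0
        · exact ⟨0, (c (Sum.inr i))⁻¹, by rw [mul_zero, zero_add, mul_inv_cancel₀ (hex i h)]⟩
        · exact ⟨(c (Sum.inl i))⁻¹, 0, by rw [mul_zero, add_zero, mul_inv_cancel₀ h]⟩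
      obtain ⟨a', b', hab'⟩ : ∃ a b, c (Sum.inl j) * a + c (Sum.inr j) * b = -1 := by
        by_cases h : c (Sum.inl j) = 0
        · exact ⟨0, -(c (Sum.inr j))⁻¹, by rw [mul_zero, zero_add, mul_neg, mul_inv_cancel₀ (hex j h)]⟩
        · exact ⟨-(c (Sum.inl j))⁻¹, 0, by rw [mul_zero, add_zero, mul_neg, mul_inv_cancel₀ h]⟩
      refine ⟨Pi.single (Sum.inl i) (c (Sum.inr i)) + Pi.single (Sum.inr i) (-c (Sum.inl i)),
        Pi.single (Sum.inl i) a + Pi.single (Sum.inr i) b + Pi.single (Sum.inl j) a' + Pi.single (Sum.inr j) b',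
        ?_, ?_, ?_⟩
      · simp [Pi.single_apply, Fintype.sum_sum_type, mul_add, Finset.sum_add_distrib]; ring
      · simp [Pi.single_apply, Fintype.sum_sum_type, mul_add, Finset.sum_add_distrib]; linear_combination hab + hab'
      · rw [Finset.sum_eq_single i]
        · simp [Pi.single_apply, hij]; linear_combination hab
        · intro l _ hl; simp [Pi.single_apply, hl]
        · simp
  obtain ⟨t, ht⟩ : ∃ t : K, φ t - t ≠ 0 := by
    by_contra h
    push Not at h
    let p : Polynomial K := Polynomial.X ^ Fintype.card k - Polynomial.X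
    have hp : p ≠ 0 := FiniteField.X_pow_card_sub_X_ne_zero K Fintype.one_lt_card
    exact hp (Polynomial.funext fun r => by simpa [p, ← hφ] using h r)
  refine ⟨fun w => algebraMap k K (e w) + t * algebraMap k K (f w), ?_, ?_⟩
  · simp only [mul_add, Finset.sum_add_distrib, ← map_mul, mul_left_comm _ t, ← Finset.mul_sum, ← map_sum, he, hf,
      map_zero, mul_zero, add_zero]
  · have hq : ∀ a : k, φ (algebraMap k K a) = algebraMap k K a := φ.commutes
    have : G k (fun w => algebraMap k K (e w) + t * algebraMap k K (f w)) =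
        (φ t - t) * algebraMap k K (∑ i, (e (Sum.inl i) * f (Sum.inr i) - e (Sum.inr i) * f (Sum.inl i))) := by
      simp only [G, hφ, map_add, map_mul, hq, map_sum, map_sub, Finset.mul_sum]
      exact Finset.sum_congr rfl fun i _ => by ring
    rw [this, hω, map_one, mul_one]
    exact ht

theorem exists_lift_away {B P : Type u} [CommRing B] [Algebra k B] [CommRing P] [Algebra k P] (I : Ideal B) (a : B)
    (g : B →ₐ[k] P) (hg : ∀ z ∈ I, g z = 0) (ha : IsUnit (g a))
    (S : Type u) [CommRing S] [Algebra k S] [Algebra (B ⧸ I) S] [IsScalarTower k (B ⧸ I) S]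
    [IsLocalization.Away (Ideal.Quotient.mk I a) S] :
    ∃ g' : S →ₐ[k] P, ∀ z, g' (algebraMap (B ⧸ I) S (Ideal.Quotient.mk I z)) = g z := by
  have ha' : IsUnit (Ideal.Quotient.liftₐ I g hg (Ideal.Quotient.mk I a)) := ha
  refine ⟨IsLocalization.Away.liftAlgHom (f := Ideal.Quotient.liftₐ I g hg) (Ideal.Quotient.mk I a) ha', fun z => ?_⟩
  rw [IsLocalization.Away.liftAlgHom_apply, IsLocalization.Away.lift, IsLocalization.lift_eq]
  rfl

theorem not_formallySmooth (hn : 1 ≤ n) (c : Fin (n + 1) ⊕ Fin (n + 1) → k)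
    (F L : MvPolynomial (Fin (n + 1) ⊕ Fin (n + 1)) k)
    (hF : F = ∑ i : Fin (n + 1), (MvPolynomial.X (Sum.inl i) * MvPolynomial.X (Sum.inr i) ^ Fintype.card k -
      MvPolynomial.X (Sum.inr i) * MvPolynomial.X (Sum.inl i) ^ Fintype.card k))
    (hL : L = ∑ v, MvPolynomial.C (c v) * MvPolynomial.X v)
    (w : Fin (n + 1) ⊕ Fin (n + 1)) (hw : pt c w ≠ 0) :
    ¬ Algebra.FormallySmooth k (Localization.Away (Ideal.Quotient.mk (Ideal.span {F, L}) (MvPolynomial.X w))) := by
  classical
  intro hsm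
  let K := AlgebraicClosure k
  obtain ⟨v, hv, hG⟩ := exists_tangent hn c K
  set N := Fintype.card k + 2 with hN
  let R := Polynomial K ⧸ Ideal.span {(Polynomial.X : Polynomial K) ^ N}
  let q : Polynomial K →ₐ[k] R := Ideal.Quotient.mkₐ k _
  let e : R := q Polynomial.X
  have heN : e ^ N = 0 := by
    rw [← map_pow]; exact Ideal.Quotient.eq_zero_iff_mem.2 (Ideal.subset_span rfl)
  let cK : K → R := fun a => q (Polynomial.C a)
  let I : Ideal R := Ideal.span {e ^ 2}
  have hI : IsNilpotent I := ⟨N, by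
    rw [Ideal.span_singleton_pow, ← pow_mul, pow_mul', show (e ^ N) ^ 2 = 0 by rw [heN, zero_pow two_ne_zero],
      Ideal.span_singleton_eq_bot.2 rfl]; rfl⟩
  let π : R →ₐ[k] R ⧸ I := Ideal.Quotient.mkₐ k I
  let x0 : Fin (n + 1) ⊕ Fin (n + 1) → R := fun y => algebraMap k R (pt c y) + e * cK (v y)
  have hπe : π (e ^ 2) = 0 := Ideal.Quotient.eq_zero_iff_mem.2 (Ideal.subset_span rfl)
  have hlin : ∑ y, algebraMap k R (c y) * (e * cK (v y)) = 0 := by
    have hcv : ∀ y, algebraMap k R (c y) * (e * cK (v y)) = e * cK (algebraMap k K (c y) * v y) := fun y => by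
      simp only [cK, Polynomial.C_mul, map_mul]
      rw [← q.commutes, Polynomial.algebraMap_apply]
      ring
    simp only [hcv, ← Finset.mul_sum]
    rw [show ∑ y, cK (algebraMap k K (c y) * v y) = cK (∑ y, algebraMap k K (c y) * v y) by simp [cK, map_sum], hv]
    simp [cK]
  have hptL : ∑ y, c y * pt c y = 0 := by
    rw [Fintype.sum_sum_type]
    simp only [pt, Sum.elim_inl, Sum.elim_inr, ← Finset.sum_add_distrib]
    exact Finset.sum_eq_zero fun i _ => by ring
  have hevalF : ∀ {S : Type u} [CommRing S] [Algebra k S] (y : Fin (n + 1) ⊕ Fin (n + 1) → S),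
      MvPolynomial.aeval y F = G k y := fun y => by simp [hF, G, map_sum]
  have hevalL : ∀ {S : Type u} [CommRing S] [Algebra k S] (y : Fin (n + 1) ⊕ Fin (n + 1) → S),
      MvPolynomial.aeval y L = ∑ z, algebraMap k S (c z) * y z := fun y => by simp [hL, map_sum]
  let g0 : MvPolynomial (Fin (n + 1) ⊕ Fin (n + 1)) k →ₐ[k] R ⧸ I := π.comp (MvPolynomial.aeval x0)
  have hg0 : ∀ a ∈ Ideal.span ({F, L} : Set _), g0 a = 0 := by
    suffices Ideal.span ({F, L} : Set _) ≤ RingHom.ker g0 from fun a ha => this ha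
    rw [Ideal.span_le, Set.insert_subset_iff, Set.singleton_subset_iff]
    refine ⟨?_, ?_⟩
    · show π (MvPolynomial.aeval x0 F) = 0
      rw [hevalF, G_shift c _ hlin, G_smul]
      exact Ideal.Quotient.eq_zero_iff_mem.2 (Ideal.mem_span_singleton.2 ((pow_dvd_pow e (by
        have := Fintype.card_pos (α := k); omega)).mul_right _))
    · show π (MvPolynomial.aeval x0 L) = 0
      rw [hevalL]
      simp only [x0, mul_add, Finset.sum_add_distrib, hlin, add_zero, ← map_mul, ← map_sum, hptL, map_zero]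
  have hunit : IsUnit (g0 (MvPolynomial.X w)) := by
    show IsUnit (π (MvPolynomial.aeval x0 (MvPolynomial.X w)))
    rw [MvPolynomial.aeval_X]
    refine ((IsNilpotent.isUnit_add_left_of_commute ⟨N, ?_⟩ ((isUnit_iff_ne_zero.2 hw).map (algebraMap k R))
      (Commute.all _ _))).map π
    rw [mul_pow, heN, zero_mul]
  obtain ⟨g2, hg2⟩ := exists_lift_away (k := k) (P := R ⧸ I) (Ideal.span ({F, L} : Set _)) (MvPolynomial.X w) g0 hg0 hunit
    (Localization.Away (Ideal.Quotient.mk (Ideal.span ({F, L} : Set _)) (MvPolynomial.X w)))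
  obtain ⟨h, hh⟩ := Algebra.FormallySmooth.exists_lift I hI g2
  let h0 : MvPolynomial (Fin (n + 1) ⊕ Fin (n + 1)) k →ₐ[k] R :=
    h.comp ((IsScalarTower.toAlgHom k (MvPolynomial (Fin (n + 1) ⊕ Fin (n + 1)) k ⧸ Ideal.span ({F, L} : Set _)) (Localization.Away (Ideal.Quotient.mk (Ideal.span ({F, L} : Set _)) (MvPolynomial.X w)))).comp (Ideal.Quotient.mkₐ k (Ideal.span ({F, L} : Set _))))
  let u : Fin (n + 1) ⊕ Fin (n + 1) → R := fun y => h0 (MvPolynomial.X y)
  have hu : ∀ y, π (u y) = π (x0 y) := fun y => by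
    show (π.comp h) (algebraMap (MvPolynomial (Fin (n + 1) ⊕ Fin (n + 1)) k ⧸ Ideal.span ({F, L} : Set _)) (Localization.Away (Ideal.Quotient.mk (Ideal.span ({F, L} : Set _)) (MvPolynomial.X w))) (Ideal.Quotient.mk _ (MvPolynomial.X y))) = _
    rw [show π.comp h = g2 from hh, hg2]
    show π (MvPolynomial.aeval x0 (MvPolynomial.X y)) = _
    rw [MvPolynomial.aeval_X]
  have hh0 : h0 = MvPolynomial.aeval u := MvPolynomial.algHom_ext fun y => by simp [u]
  have hzero : ∀ a ∈ ({F, L} : Set (MvPolynomial (Fin (n + 1) ⊕ Fin (n + 1)) k)), MvPolynomial.aeval u a = 0 := fun a ha => by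
    rw [← hh0]
    show h (algebraMap (MvPolynomial (Fin (n + 1) ⊕ Fin (n + 1)) k ⧸ Ideal.span ({F, L} : Set _)) (Localization.Away (Ideal.Quotient.mk (Ideal.span ({F, L} : Set _)) (MvPolynomial.X w))) (Ideal.Quotient.mk _ a)) = 0
    rw [Ideal.Quotient.eq_zero_iff_mem.2 (Ideal.subset_span ha), map_zero, map_zero]
  choose r hr using fun y => Ideal.mem_span_singleton.1 ((Ideal.Quotient.eq).1 (hu y))
  have hu' : ∀ y, u y = algebraMap k R (pt c y) + e * (cK (v y) + e * r y) := fun y => by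
    rw [sub_eq_iff_eq_add.1 (hr y)]; simp only [x0]; ring
  have hL0 := hzero L (by simp)
  rw [hevalL] at hL0
  simp only [hu', mul_add, Finset.sum_add_distrib, ← map_mul, ← map_sum, hptL, map_zero, zero_add] at hL0
  have hF0 := hzero F (by simp)
  rw [hevalF, show u = fun y => algebraMap k R (pt c y) + e * (cK (v y) + e * r y) from funext hu',
    G_shift c _ (by simpa [mul_add, Finset.sum_add_distrib] using hL0), G_smul] at hF0
  have hdiv : e ∣ G k (fun y => cK (v y) + e * r y) - cK (G k v) := by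
    rw [← Ideal.mem_span_singleton, ← Ideal.Quotient.eq, G_map (k := k) (R := R) (S := R ⧸ Ideal.span {e}) (Ideal.Quotient.mk (Ideal.span {e})),
      show Ideal.Quotient.mk (Ideal.span {e}) (cK (G k v)) = _ from
        G_map (k := k) (R := K) (S := R ⧸ Ideal.span {e}) (((Ideal.Quotient.mk (Ideal.span {e})).comp q.toRingHom).comp Polynomial.C) v]
    congr 1
    funext y
    show Ideal.Quotient.mk (Ideal.span {e}) (cK (v y) + e * r y) = Ideal.Quotient.mk (Ideal.span {e}) (cK (v y))
    rw [Ideal.Quotient.eq, add_sub_cancel_left]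
    exact Ideal.mem_span_singleton.2 (dvd_mul_right e (r y))
  obtain ⟨d, hd⟩ := hdiv
  have hlast : e ^ (Fintype.card k + 1) * cK (G k v) = 0 := by
    have hstep : e ^ (Fintype.card k + 1) * (e * d) = 0 := by rw [← mul_assoc, ← pow_succ, heN, zero_mul]
    rwa [← hd, mul_sub, hF0, zero_sub, neg_eq_zero] at hstep
  have hmem : (Polynomial.X : Polynomial K) ^ (Fintype.card k + 1) * Polynomial.C (G k v) ∈
      Ideal.span {(Polynomial.X : Polynomial K) ^ N} := Ideal.Quotient.eq_zero_iff_mem.1 (by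
        rw [map_mul, map_pow]; exact hlast)
  rw [Ideal.mem_span_singleton, Polynomial.X_pow_dvd_iff] at hmem
  have h1 := hmem (Fintype.card k + 1) (by omega)
  rw [mul_comm, Polynomial.coeff_C_mul, Polynomial.coeff_X_pow_self, mul_one] at h1
  exact hG h1

end GrothLib.HermSect
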